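import Groth.Agent.Lib.HilbD.Content
import Groth.Agent.Lib.SchDom.Scheme
import Groth.Agent.Lib.DvrCrit.Curve
import Mathlib.AlgebraicGeometry.Noetherian

/-!
# Closed locus over which `X` factors through a closed subscheme

Given a family `Z i ⟶ X` of finite flat `S`-schemes which is universally schematically dominant,
the locus of the base over which `X` is contained in a closed subscheme is a closed subscheme.
-/

set_option autoImplicit false
set_option linter.style.haveILetI false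

universe u

open CategoryTheory Limits AlgebraicGeometry
open Groth.Agent.Lib.SchDom Groth.Agent.Lib.HilbD

namespace Groth.Agent.Lib.TorsionDense

variable {X S Y : Scheme.{u}}

theorem exists_fac_iff_comap_eq_bot (y : Y ⟶ X) [IsClosedImmersion y] {W : Scheme.{u}}
    (h : W ⟶ X) : (∃ l : W ⟶ Y, l ≫ y = h) ↔ y.ker.comap h = ⊥ := by
  constructor
  · rintro ⟨l, rfl⟩
    have hy : y.ker.comap y = ⊥ := by
      rw [← Scheme.IdealSheafData.map_bot y, eq_bot_iff]
      exact Scheme.IdealSheafData.comap_map_le _ _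
    rw [Scheme.IdealSheafData.comap_comp, hy, Scheme.IdealSheafData.comap_bot]
  · intro hh
    have hle : y.ker ≤ h.ker := by
      rw [← Scheme.IdealSheafData.map_bot h, Scheme.IdealSheafData.le_map_iff_comap_le, hh]
    exact ⟨IsClosedImmersion.lift y h hle, IsClosedImmersion.lift_fac ..⟩

theorem eq_bot_of_sd {A : Scheme.{u}} {ι : Type u} {Z : ι → Scheme.{u}} (f : ∀ i, Z i ⟶ A)
    (hf : SD f) (J : A.IdealSheafData) (h : ∀ i, J.comap (f i) = ⊥) : J = ⊥ := by
  refine Scheme.IdealSheafData.ext (funext fun U => ?_)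
  rw [Scheme.IdealSheafData.ideal_bot, Pi.bot_apply, eq_bot_iff]
  intro a ha
  refine hf U.1 a fun i => ?_
  have hle : J ≤ (f i).ker := by
    rw [← Scheme.IdealSheafData.map_bot (f i), Scheme.IdealSheafData.le_map_iff_comap_le, h i]
  exact RingHom.mem_ker.mp ((f i).ideal_ker_le U (hle U ha))

variable [IsLocallyNoetherian S] (p : X ⟶ S) {ι : Type u}
  (Z : ι → Scheme.{u}) (f : ∀ i, Z i ⟶ X)
  (hfin : ∀ i, IsFinite (f i ≫ p)) (hflat : ∀ i, Flat (f i ≫ p))
  (y : Y ⟶ X) [IsClosedImmersion y]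

include hfin hflat in
theorem isFinLocFree (i : ι) : Mor2.IsFinLocFree (f i ≫ p) := by
  haveI := hfin i
  exact ⟨hfin i, hflat i, DvrCrit.lfp_of_lft (f i ≫ p)⟩

/-- The ideal of the locus of the base over which `Z i` factors through `Y`. -/
noncomputable def locus (i : ι) : S.IdealSheafData :=
  Content.content (f i ≫ p) (isFinLocFree p Z f hfin hflat i) (y.ker.comap (f i))

theorem locus_comap_eq_bot_iff {S' : Scheme.{u}} (g : S' ⟶ S) (i : ι) :
    (locus p Z f hfin hflat y i).comap g = ⊥ ↔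
      ∃ l : pullback (f i ≫ p) g ⟶ Y, l ≫ y = pullback.fst (f i ≫ p) g ≫ f i := by
  rw [locus, Content.content_comap_eq_bot_iff _ _ _ (IsPullback.of_hasPullback _ _),
    exists_fac_iff_comap_eq_bot, Scheme.IdealSheafData.comap_comp]

omit [IsLocallyNoetherian S] [IsClosedImmersion y] in
theorem exists_lift_member {S' : Scheme.{u}} (g : S' ⟶ S) (i : ι)
    (h : ∃ l : pullback p g ⟶ Y, l ≫ y = pullback.fst p g) :
    ∃ l : pullback (f i ≫ p) g ⟶ Y, l ≫ y = pullback.fst (f i ≫ p) g ≫ f i := by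
  obtain ⟨l, hl⟩ := h
  refine ⟨pbFam p g f i ≫ l, ?_⟩
  rw [Category.assoc, hl]
  exact pullback.lift_fst _ _ _

variable (huniv : ∀ (S' : Scheme.{u}) (g : S' ⟶ S), SD (pbFam p g f))

include huniv in
theorem exists_lift_iff {S' : Scheme.{u}} (g : S' ⟶ S) :
    (∃ l : pullback p g ⟶ Y, l ≫ y = pullback.fst p g) ↔
      ∀ i, (locus p Z f hfin hflat y i).comap g = ⊥ := by
  refine ⟨fun h i => (locus_comap_eq_bot_iff p Z f hfin hflat y g i).mpr
    (exists_lift_member p Z f y g i h), fun h => ?_⟩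
  rw [exists_fac_iff_comap_eq_bot]
  refine eq_bot_of_sd _ (huniv S' g) _ fun i => ?_
  rw [← Scheme.IdealSheafData.comap_comp, ← exists_fac_iff_comap_eq_bot]
  obtain ⟨l, hl⟩ := (locus_comap_eq_bot_iff p Z f hfin hflat y g i).mp (h i)
  exact ⟨l, hl.trans (pullback.lift_fst _ _ _).symm⟩

include hfin hflat huniv in
theorem exists_closed :
    ∃ (T : Scheme.{u}) (t : T ⟶ S), IsClosedImmersion t ∧
      ∀ (S' : Scheme.{u}) (g : S' ⟶ S), (∃ g' : S' ⟶ T, g' ≫ t = g) ↔
        ∃ l : pullback p g ⟶ Y, l ≫ y = pullback.fst p g := by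
  refine ⟨_, (⨆ i, locus p Z f hfin hflat y i).subschemeι, inferInstance, fun S' g => ?_⟩
  rw [exists_lift_iff p Z f hfin hflat y huniv g, exists_fac_iff_comap_eq_bot,
    Scheme.IdealSheafData.ker_subschemeι, (Scheme.IdealSheafData.map_gc g).l_iSup, iSup_eq_bot]

/-- In the lattice of ideals of a Noetherian ring every supremum is a finite one. -/
theorem exists_finset_ideal {R : Type u} [CommRing R] [IsNoetherianRing R] (I : ι → Ideal R) :
    ∃ F : Finset ι, ⨆ i, I i ≤ ⨆ i ∈ F, I i := by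
  have hc : IsCompactElement (⨆ i, I i) :=
    (Submodule.fg_iff_compact _).mp (IsNoetherian.noetherian _)
  obtain ⟨F, hF⟩ := CompleteLattice.IsCompactElement.exists_finset_of_le_iSup (Ideal R) hc I le_rfl
  exact ⟨F, by simpa [Finset.sup_eq_iSup] using hF⟩

include hfin hflat huniv in
theorem exists_finset [CompactSpace S] :
    ∃ F : Finset ι, ∀ (S' : Scheme.{u}) (g : S' ⟶ S),
      (∀ i ∈ F, ∃ l : pullback (f i ≫ p) g ⟶ Y, l ≫ y = pullback.fst (f i ≫ p) g ≫ f i) →
        ∃ l : pullback p g ⟶ Y, l ≫ y = pullback.fst p g := by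
  classical
  let I := locus p Z f hfin hflat y
  have hU : ∀ s : S, ∃ U : S.affineOpens, s ∈ U.1 := fun s => by
    obtain ⟨U, hU, hs, -⟩ := exists_isAffineOpen_mem_and_subset (x := s) (U := ⊤) trivial
    exact ⟨⟨U, hU⟩, hs⟩
  choose U hsU using hU
  obtain ⟨A, hA⟩ := isCompact_univ.elim_finite_subcover (fun s => ((U s).1 : Set S))
    (fun s => (U s).1.2) fun s _ => Set.mem_iUnion.mpr ⟨s, hsU s⟩
  have hF : ∀ s, ∃ F : Finset ι, ⨆ i, (I i).ideal (U s) ≤ ⨆ i ∈ F, (I i).ideal (U s) := fun s => by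
    haveI := IsLocallyNoetherian.component_noetherian (X := S) (U s)
    exact exists_finset_ideal _
  choose F hF using hF
  refine ⟨A.biUnion F, fun S' g hg => ?_⟩
  have hle : ⨆ i, I i ≤ ⨆ i : ↥(A.biUnion F), I i := by
    refine sup_eq_right.mp (Scheme.IdealSheafData.ext_of_iSup_eq_top
      (fun s : A => U s.1) (eq_top_iff.mpr fun x _ => ?_) fun s => ?_)
    · obtain ⟨s, hs, hxs⟩ := Set.mem_iUnion₂.mp (hA (Set.mem_univ x))
      exact TopologicalSpace.Opens.mem_iSup.mpr ⟨⟨s, hs⟩, hxs⟩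
    · rw [Scheme.IdealSheafData.ideal_sup, Pi.sup_apply, sup_eq_right]
      simp only [Scheme.IdealSheafData.ideal_iSup, iSup_apply]
      exact (hF s.1).trans (iSup₂_le fun i hi => le_iSup (fun i : ↥(A.biUnion F) => (I i).ideal (U s.1))
        ⟨i, Finset.mem_biUnion.mpr ⟨_, s.2, hi⟩⟩)
  rw [exists_lift_iff p Z f hfin hflat y huniv g]
  intro i
  refine eq_bot_iff.mpr ((Scheme.IdealSheafData.comap_mono g ((le_iSup I i).trans hle)).trans ?_)
  simp only [(Scheme.IdealSheafData.map_gc g).l_iSup, iSup_le_iff]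
  exact fun j => ((locus_comap_eq_bot_iff p Z f hfin hflat y g j.1).mpr (hg j.1 j.2)).le

end Groth.Agent.Lib.TorsionDense
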