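import Groth.Agent.S4876
import Groth.Agent.Lib.TorsionDense.Closed
import Mathlib.CategoryTheory.Monoidal.Cartesian.Over

/-!
# The kernels of the power maps as a universally schematically dominant family
-/

set_option autoImplicit false
set_option linter.style.haveILetI false

universe u

open CategoryTheory MonoidalCategory CartesianMonoidalCategory MonObj AlgebraicGeometry
open Groth.Agent.Lib.SchDom

namespace Groth.Agent.Lib.TorsionDense

open Limits

variable {S : Scheme.{u}} {H : Over S} [GrpObj H]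

/-- The inclusion of the kernel of the `n`-th power map. -/
noncomputable abbrev kerι (H : Over S) [GrpObj H] (n : ℕ) :
    pullback η[H].left (𝟙 H ^ n : H ⟶ H).left ⟶ H.left :=
  pullback.snd η[H].left (𝟙 H ^ n : H ⟶ H).left

/-- The kernels indexed by the elements of a set of integers. -/
noncomputable abbrev kerFam (H : Over S) [GrpObj H] (E : Set ℕ) (i : ULift.{u} E) :
    pullback η[H].left (𝟙 H ^ (i.down.1) : H ⟶ H).left ⟶ H.left :=
  kerι H i.down.1

theorem pow_eq_one_of_fac {X : Over S} (h : X ⟶ H) (n : ℕ)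
    (a : X.left ⟶ pullback η[H].left (𝟙 H ^ n : H ⟶ H).left) (ha : a ≫ kerι H n = h.left) :
    h ^ n = 1 := by
  rw [← Category.comp_id h, ← MonObj.comp_pow, Hom.one_def]
  have hw : (a ≫ pullback.fst η[H].left (𝟙 H ^ n : H ⟶ H).left) ≫ (𝟙_ (Over S)).hom = X.hom := by
    rw [Category.assoc, ← Over.w η[H], pullback.condition_assoc, Over.w, ← Category.assoc]
    exact (congrArg (· ≫ H.hom) ha).trans (Over.w h)
  rw [← toUnit_unique (Over.homMk _ hw) (toUnit X)]
  ext
  rw [Over.comp_left, Over.comp_left, ← ha]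
  simp only [Category.assoc, Over.homMk_left]
  rw [← pullback.condition]

theorem exists_fac_of_pow_eq_one {X : Over S} (h : X ⟶ H) (n : ℕ) (hn : h ^ n = 1) :
    ∃ a : X.left ⟶ pullback η[H].left (𝟙 H ^ n : H ⟶ H).left, a ≫ kerι H n = h.left := by
  refine ⟨pullback.lift (toUnit X).left h.left ?_, pullback.lift_snd _ _ _⟩
  rw [← Over.comp_left, ← Over.comp_left, MonObj.comp_pow, Category.comp_id, hn, Hom.one_def]

theorem exists_kerι_fac_of_dvd {m n : ℕ} (hmn : m ∣ n) :
    ∃ w : pullback η[H].left (𝟙 H ^ m : H ⟶ H).left ⟶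
        pullback η[H].left (𝟙 H ^ n : H ⟶ H).left, w ≫ kerι H n = kerι H m := by
  obtain ⟨c, rfl⟩ := hmn
  let x : Over.mk (kerι H m ≫ H.hom) ⟶ H := Over.homMk (kerι H m) rfl
  have hx : x ^ m = 1 := pow_eq_one_of_fac x m (𝟙 _) (Category.id_comp _)
  exact exists_fac_of_pow_eq_one x (m * c) (by rw [pow_mul, hx, one_pow])

theorem exists_common_multiple {E : Set ℕ} (hE : E.Nonempty)
    (hEmul : ∀ m ∈ E, ∀ n ∈ E, m * n ∈ E) (F : Finset (ULift.{u} E)) :
    ∃ n ∈ E, ∀ i ∈ F, i.down.1 ∣ n := by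
  classical
  induction F using Finset.induction_on with
  | empty => exact ⟨hE.some, hE.some_mem, by simp⟩
  | insert a s _ ih =>
    obtain ⟨n, hn, hdvd⟩ := ih
    refine ⟨a.down.1 * n, hEmul _ a.down.2 _ hn, fun i hi => ?_⟩
    rcases Finset.mem_insert.mp hi with rfl | hi
    · exact dvd_mul_right _ _
    · exact (hdvd i hi).mul_left _

theorem kerFam_univ [IsLocallyNoetherian S] [LocallyOfFiniteType H.hom] (E : Set ℕ)
    (hflat : ∀ i : ULift.{u} E, Flat (kerFam H E i ≫ H.hom))
    (hb : ∀ (s : S) (V : (H.hom.fiber s).Opens) (t : Γ(H.hom.fiber s, V)),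
      (∀ n ∈ E, (MoreMor.fiberMap (kerι H n) H.hom s).app V t = 0) → t = 0) :
    ∀ (S' : Scheme.{u}) (g : S' ⟶ S), SD (pbFam H.hom g (kerFam H E)) := by
  haveI : IsLocallyNoetherian H.left := LocallyOfFiniteType.isLocallyNoetherian H.hom
  exact (Groth.Agent.S4876.result H.hom _ (kerFam H E)).mpr
    fun s V t ht => hb s V t fun n hn => ht ⟨⟨n, hn⟩⟩

end Groth.Agent.Lib.TorsionDense
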