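import Groth.Agent.Lib.TorsionDense.Kernels
import Mathlib.CategoryTheory.Limits.Shapes.Pullback.Pasting
import Mathlib.CategoryTheory.Monoidal.Cartesian.Grp

/-!
# The transporter as a locus of the group where a closed subscheme contains `H`
-/

set_option autoImplicit false
set_option linter.style.haveILetI false

universe u

open CategoryTheory MonoidalCategory CartesianMonoidalCategory MonObj GrpObj AlgebraicGeometry
open Groth.Agent.Lib.SchDom

namespace Groth.Agent.Lib.TorsionDense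

open Limits

variable {S : Scheme.{u}}

@[reassoc]
theorem pbFam_fst {X S' : Scheme.{u}} {σ : Type u} {Z : σ → Scheme.{u}} (p : X ⟶ S) (g : S' ⟶ S)
    (f : ∀ i, Z i ⟶ X) (i : σ) :
    pbFam p g f i ≫ pullback.fst p g = pullback.fst (f i ≫ p) g ≫ f i :=
  pullback.lift_fst _ _ _

@[reassoc]
theorem pbFam_snd {X S' : Scheme.{u}} {σ : Type u} {Z : σ → Scheme.{u}} (p : X ⟶ S) (g : S' ⟶ S)
    (f : ∀ i, Z i ⟶ X) (i : σ) :
    pbFam p g f i ≫ pullback.snd p g = pullback.snd (f i ≫ p) g :=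
  (pullback.lift_snd _ _ _).trans (Category.comp_id _)

/-- Universal schematic dominance survives a change of base. -/
theorem univ_pbFam {X S' : Scheme.{u}} {σ : Type u} {Z : σ → Scheme.{u}} (p : X ⟶ S) (q : S' ⟶ S)
    (f : ∀ i, Z i ⟶ X) (huniv : ∀ (T : Scheme.{u}) (g : T ⟶ S), SD (pbFam p g f))
    (T : Scheme.{u}) (g : T ⟶ S') : SD (pbFam (pullback.snd p q) g (pbFam p q f)) := by
  intro V t ht
  let e := (pullbackLeftPullbackSndIso p q g).symm
  have hew : ∀ i, ∃ w, pbFam p (g ≫ q) f i ≫ e.hom =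
      w ≫ pbFam (pullback.snd p q) g (pbFam p q f) i := fun i => by
    refine ⟨pullback.lift (pullback.lift (pullback.fst _ _) (pullback.snd _ _ ≫ g) ?_)
      (pullback.snd _ _) ?_, ?_⟩
    · rw [pullback.condition, Category.assoc]
    · rw [pbFam_snd, pullback.lift_snd]
    · refine pullback.hom_ext (pullback.hom_ext ?_ ?_) ?_ <;>
        simp only [e, Iso.symm_hom, Category.assoc]
      · rw [pullbackLeftPullbackSndIso_inv_fst, pbFam_fst, pbFam_fst_assoc,
          pullback.lift_fst_assoc, pbFam_fst, pullback.lift_fst_assoc]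
      · rw [pullback.condition, pullbackLeftPullbackSndIso_inv_snd_snd_assoc, pbFam_snd_assoc,
          pbFam_snd_assoc, pullback.lift_snd_assoc]
      · rw [pullbackLeftPullbackSndIso_inv_snd_snd, pbFam_snd p (g ≫ q)]
        exact ((congrArg (_ ≫ ·) (pbFam_snd _ g (pbFam p q f) i)).trans (pullback.lift_snd _ _ _)).symm
  have h0 : e.hom.app V t = 0 := by
    refine huniv T (g ≫ q) _ _ fun i => ?_
    obtain ⟨w, hw⟩ := hew i
    have key : ∀ {A : Scheme.{u}} (a b : A ⟶ _), a = b → b.app V t = 0 → a.app V t = 0 := by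
      rintro A a b rfl h; exact h
    refine key _ _ hw ?_
    rw [Scheme.Hom.comp_app]
    exact (congrArg (w.app _) (ht i)).trans (map_zero _)
  exact (map_eq_zero_iff _ (ConcreteCategory.bijective_of_isIso (e.hom.app V)).1).mp h0

variable {H G K : Over S} [GrpObj G]

/-- The conjugate of `u(h)` by `g` as a morphism from `H ⊗ G`. -/
noncomputable def conjMap (u : H ⟶ G) : H ⊗ G ⟶ G :=
  snd H G * (fst H G ≫ u) * (snd H G)⁻¹

theorem comp_conjMap (u : H ⟶ G) {X : Over S} (q : X ⟶ H ⊗ G) :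
    q ≫ conjMap u = (q ≫ snd H G) * ((q ≫ fst H G) ≫ u) * (q ≫ snd H G)⁻¹ := by
  simp only [conjMap, MonObj.comp_mul, GrpObj.comp_inv, Category.assoc]

variable (u : H ⟶ G) (k : K ⟶ G)

theorem transporter_of_lift {X : Over S} (g : X ⟶ G)
    (hl : ∃ l : pullback (pullback.snd H.hom G.hom) g.left ⟶ pullback (conjMap u).left k.left,
      l ≫ pullback.fst _ _ = pullback.fst (pullback.snd H.hom G.hom) g.left)
    {X' : Over S} (x : X' ⟶ X) (h : X' ⟶ H) :
    ∃ κ : X' ⟶ K, (x ≫ g) * (h ≫ u) * (x ≫ g)⁻¹ = κ ≫ k := by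
  obtain ⟨l, hl⟩ := hl
  let q : X' ⟶ H ⊗ G := lift h (x ≫ g)
  have hq : q.left ≫ pullback.snd H.hom G.hom = x.left ≫ g.left :=
    congrArg CommaMorphism.left (lift_snd h (x ≫ g))
  let m := pullback.lift q.left x.left hq ≫ l ≫ pullback.snd _ _
  have hm : m ≫ k.left = q.left ≫ (conjMap u).left := by
    simp only [m, Category.assoc, ← pullback.condition]
    rw [reassoc_of% hl, pullback.lift_fst_assoc]
  refine ⟨Over.homMk m ?_, ?_⟩
  · rw [← Over.w k, ← Category.assoc, hm, ← Over.comp_left, Over.w]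
  · have := comp_conjMap u q
    rw [lift_snd, lift_fst] at this
    rw [← this]
    ext
    exact hm.symm

theorem lift_of_transporter {X : Over S} (g : X ⟶ G) {W : Scheme.{u}}
    (w : W ⟶ pullback (pullback.snd H.hom G.hom) g.left)
    (ht : ∀ (x : Over.mk (w ≫ pullback.fst _ _ ≫ (H ⊗ G).hom) ⟶ X)
      (h : Over.mk (w ≫ pullback.fst _ _ ≫ (H ⊗ G).hom) ⟶ H),
      h.left = w ≫ pullback.fst _ _ ≫ pullback.fst H.hom G.hom →
      ∃ κ : Over.mk (w ≫ pullback.fst _ _ ≫ (H ⊗ G).hom) ⟶ K,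
        (x ≫ g) * (h ≫ u) * (x ≫ g)⁻¹ = κ ≫ k) :
    ∃ l : W ⟶ pullback (conjMap u).left k.left,
      l ≫ pullback.fst _ _ = w ≫ pullback.fst (pullback.snd H.hom G.hom) g.left := by
  let q : Over.mk (w ≫ pullback.fst _ _ ≫ (H ⊗ G).hom) ⟶ H ⊗ G :=
    Over.homMk (w ≫ pullback.fst _ _) (Category.assoc _ _ _)
  let x : Over.mk (w ≫ pullback.fst _ _ ≫ (H ⊗ G).hom) ⟶ X :=
    Over.homMk (w ≫ pullback.snd _ _) (by
      rw [← Over.w g, Category.assoc, ← pullback.condition_assoc]
      exact congrArg (fun e => w ≫ pullback.fst _ _ ≫ e) (Over.w (snd H G)))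
  have hxg : x ≫ g = q ≫ snd H G := by
    ext
    simp [x, q, pullback.condition]
  obtain ⟨κ, hκ⟩ := ht x (q ≫ fst H G) (Category.assoc _ _ _)
  rw [hxg, ← comp_conjMap] at hκ
  exact ⟨pullback.lift q.left κ.left (congrArg CommaMorphism.left hκ), pullback.lift_fst _ _ _⟩

end Groth.Agent.Lib.TorsionDense
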